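import Cfsg.Agent.H334.EP.Inv
import Cfsg.Agent.H334.EP.InvTab
import Cfsg.Agent.H892.EP.Rows

/-!
# Parity rows of S4929 for the exceptional groups (odd characteristic)
-/

set_option autoImplicit false
set_option linter.unusedSectionVars false

namespace Cfsg.Agent.H334.EP

open CoxeterSystem Cfsg.Agent.ChevalleyStructure.CoxeterGeom Cfsg.Agent.Tits.Roots Cfsg.Agent.Tits.Core
  Cfsg.Agent.Nodes.BNOf Cfsg.Agent.Nodes.RGDChev Cfsg.Agent.Nodes.RGDFold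
  Cfsg.Agent.Nodes.RGDFoldSL Cfsg.Agent.H892.EP
open Cfsg.Lie Cfsg.Agent.ChevalleyStructure

section

variable {F : Type} [Field F] [Fintype F] {r : ℕ} [Fact r.Prime] [CharP F r]

theorem inv2_chev {D : ChevalleyDatum} {l : ℕ} {M : CoxeterMatrix (Fin l)} (hp : IsType D l M) (hr : r ≠ 2)
    (htab : ∀ i : Fin l, ∃ j : Fin l, Odd (D.cartan j (D.simple i))) : Inv2 r ↥(D.group F) := by
  have : Finite M.Group := finite_W hp M.toCoxeterSystem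
  refine inv2_of_rgd hr (rgd (K := F) hp M.toCoxeterSystem r) (G1_eq_top hp M.toCoxeterSystem) ?_
    (inv_chev hp htab)
  intro a ha b hb
  exact Subtype.ext (diag_comm hp ha hb)

theorem pu_g2 (hr : r ≠ 2) : ParU r ↥(Lie.chevG2.group F) :=
  parU_of_inv2 hr (inv2_chev (M := CoxeterMatrix.G₂) (l := 2) (by simp [IsType, typeList]) hr (by decide +kernel))

theorem pu_f4 (hr : r ≠ 2) : ParU r ↥(Lie.chevF4.group F) :=
  parU_of_inv2 hr (inv2_chev (M := CoxeterMatrix.F₄) (l := 4) (by simp [IsType, typeList]) hr (by decide +kernel))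

theorem pu_e6 (hr : r ≠ 2) : ParU r ↥(Lie.chevE6.group F) :=
  parU_of_inv2 hr (inv2_chev (M := CoxeterMatrix.E₆) (l := 6) (by simp [IsType, typeList]) hr (by decide +kernel))

theorem pu_e7 (hr : r ≠ 2) : ParU r ↥(Lie.chevE7.group F) :=
  parU_of_inv2 hr (inv2_chev (M := CoxeterMatrix.E₇) (l := 7) (by simp [IsType, typeList]) hr (by decide +kernel))

theorem pu_e8 (hr : r ≠ 2) : ParU r ↥(Lie.chevE8.group F) :=
  parU_of_inv2 hr (inv2_chev (M := CoxeterMatrix.E₈) (l := 8) (by simp [IsType, typeList]) hr (by decide +kernel))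

theorem tab_e6 : ∀ i, ∃ j, ∀ s ∈ Cfsg.Agent.Nodes.RGDTwNode.E6.rep i :: Cfsg.Agent.Nodes.RGDTwNode.E6.rest i,
    Odd ((Cfsg.Agent.Nodes.RGDTwE6.J j).map fun k : Fin 6 => chevE6.cartan k s).sum := by decide +kernel

theorem tab_d4 : ∀ i, ∃ j, ∀ s ∈ Cfsg.Agent.Nodes.RGDTwNode.D4.rep i :: Cfsg.Agent.Nodes.RGDTwNode.D4.rest i,
    Odd ((Cfsg.Agent.Nodes.RGDTwD4.J j).map fun k : Fin 4 => chevD4.cartan k s).sum := by decide +kernel

theorem inv2_te6 (hr : r ≠ 2) {q : ℕ} (hq : IsPrimePow q) (hF : Fintype.card F = q ^ 2) :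
    Inv2 r ↥(Lie.twistedE6 F q) := by
  obtain ⟨φ, hφ, hqq⟩ := Cfsg.Agent.ChevalleyStructure.TwE6Basic.exists_frob hq hF
  have : Finite (CoxeterMatrix.F₄).Group :=
    Cfsg.Agent.Nodes.RGDFold.finite_W (hp := Cfsg.Agent.Nodes.RGDTwE6.hp) CoxeterMatrix.F₄.toCoxeterSystem
      Cfsg.Agent.Nodes.RGDTwE6.isCartan Cfsg.Agent.Nodes.RGDTwE6.foldData
  refine inv2_of_rgd hr (Cfsg.Agent.Nodes.RGDTwE6.rgd CoxeterMatrix.F₄.toCoxeterSystem hφ hqq r)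
    (Cfsg.Agent.Nodes.RGDTwE6.G1_eq_top CoxeterMatrix.F₄.toCoxeterSystem hφ hqq) ?_ ?_
  · intro a ha b hb
    exact Subtype.ext (diag_comm Cfsg.Agent.Nodes.RGDTwE6.hp ha.1 hb.1)
  · exact inv_fold (Cfsg.Agent.Nodes.RGDTwE6.foldGrp hφ hqq) Cfsg.Agent.Nodes.RGDTwNode.E6.nodeOK (fun i s hs t => by
      rw [Cfsg.Agent.Nodes.RGDTwNode.E6.eps_one i s hs, Int.cast_one, one_mul]) tab_e6

theorem pu_te6 (hr : r ≠ 2) {q : ℕ} (hq : IsPrimePow q) (hF : Fintype.card F = q ^ 2) : ParU r (Lie.twistedE6 F q) :=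
  parU_of_inv2 hr (inv2_te6 hr hq hF)

theorem inv2_td4 (hr : r ≠ 2) {q : ℕ} (hq : IsPrimePow q) (hF : Fintype.card F = q ^ 3) :
    Inv2 r ↥(Lie.twistedD4 F q) := by
  obtain ⟨φ, hφ⟩ := D4Fixed.exists_frob hq hF
  have : Finite (CoxeterMatrix.G₂).Group :=
    Cfsg.Agent.Nodes.RGDFold.finite_W (hp := Cfsg.Agent.Nodes.RGDTwD4.hp) CoxeterMatrix.G₂.toCoxeterSystem
      Cfsg.Agent.Nodes.RGDTwD4.isCartan Cfsg.Agent.Nodes.RGDTwD4.foldData
  refine inv2_of_rgd hr (Cfsg.Agent.Nodes.RGDTwD4.rgd CoxeterMatrix.G₂.toCoxeterSystem hF hφ r)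
    (Cfsg.Agent.Nodes.RGDTwD4.G1_eq_top CoxeterMatrix.G₂.toCoxeterSystem hF hφ) ?_ ?_
  · intro a ha b hb
    exact Subtype.ext (diag_comm Cfsg.Agent.Nodes.RGDTwD4.hp ha.1 hb.1)
  · exact inv_fold (Cfsg.Agent.Nodes.RGDTwD4.foldGrp hφ (D4Fixed.twisted_le_fix hF hφ))
      Cfsg.Agent.Nodes.RGDTwNode.D4.nodeOK (fun i s hs t => by
      rw [Cfsg.Agent.Nodes.RGDTwNode.D4.eps_one i s hs, Int.cast_one, one_mul]) tab_d4

theorem pu_td4 (hr : r ≠ 2) {q : ℕ} (hq : IsPrimePow q) (hF : Fintype.card F = q ^ 3) : ParU r (Lie.twistedD4 F q) :=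
  parU_of_inv2 hr (inv2_td4 hr hq hF)

end

end Cfsg.Agent.H334.EP
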